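import Cfsg.Agent.H905.Sp4Main
import Cfsg.Agent.H726.CY.StA
import Cfsg.Agent.H965.XZ.IdxB
import Cfsg.Agent.H353.PanC
import Cfsg.Agent.H776.CY.Congr
import Cfsg.Agent.H2.BR.PspRow

/-!
# S4829 : `PSp_4(q)`, `q` even (all automorphisms, also the exotic graph automorphisms) (helper333)

* `rowA_ell` : `ord_p(q) = 2 e`, `e ≤ 2` : the Steinberg character (helper726's `rowA_st_ell`), group `Sp_4(q)`;
* `cent_le` : `C(Q0) ≤ T` for `Q0 = {t ∈ T | t ^ p = 1}` if `p ∣ q - 1`, `p ≠ 2`; `rowA_torus` (helper726's `rowA_st_torus`);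
* `spEquiv` : `Sp_4(q) ≃* PSp_4(q)` for `q` even; **`rowA_psp_four_two`**.
-/

set_option autoImplicit false
set_option linter.unusedSectionVars false

namespace Cfsg.Agent.H333.CY.Four

open CoxeterSystem Cfsg.Agent.ChevalleyStructure.CoxeterGeom Cfsg.Agent.Tits.Roots Cfsg.Agent.Nodes.TypeC
open Cfsg.Agent.Nodes.Comb Cfsg.Agent.Nodes.Reps Cfsg.Agent.Nodes.WittRoot Cfsg.Agent.Nodes.BNOf
open Cfsg.Agent.Nodes.WittRGD Cfsg.Agent.Nodes.RGDLib Cfsg.Agent.Nodes.OppDec Cfsg.Agent.Nodes.WittAll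
open Cfsg.Agent.Nodes.Bruhat Cfsg.Agent.Nodes.StabComb Cfsg.Agent.Nodes.LeviDec
open Cfsg.Agent.TitsThree Cfsg.Agent.TitsThree.Siegel Cfsg.Agent.TitsThree.WittFrame
  Cfsg.Agent.TitsThree.FrameCN Cfsg.Agent.TitsThree.SpIdent Cfsg.Agent.TitsThree.SpGen
open Cfsg.Agent.H62.SpCross Cfsg.Agent.H62.FrameSL Cfsg.Agent.H905.Sp4 Cfsg.Agent.H770.CY Cfsg.Agent.H726.CY

universe u

variable {K : Type u} [Field K] [Fintype K] {p : ℕ} [hp : Fact p.Prime]

/-- the Coxeter system -/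
noncomputable abbrev c4 : CoxeterSystem (CoxeterMatrix.B 2) (CoxeterMatrix.B 2).Group :=
  (CoxeterMatrix.B 2).toCoxeterSystem

theorem card_adm : Nat.card (frame 2 K).Adm = Nat.card K :=
  Nat.card_congr ⟨fun a => a.c, fun c => adm c, fun a => (eq_adm a).symm, fun _ => rfl⟩

theorem ne_char {r : ℕ} [CharP K r] (hpK : (p : K) ≠ 0) : p ≠ r := by
  rintro rfl
  exact hpK (CharP.cast_eq_zero K p)

/-- **the elliptic case** -/
theorem rowA_ell [Fintype (isos (form 2 K))] (hpK : (p : K) ≠ 0) {e : ℕ} (he : 0 < e) (he2 : e ≤ 2)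
    (hmod : 2 % e = 0) (ho : orderOf ((Nat.card K : ℕ) : ZMod p) = 2 * e) : RowA p (isos (form 2 K)) := by
  obtain ⟨r, hr⟩ := CharP.exists K
  have hrp : Fact r.Prime := ⟨CharP.char_is_prime K r⟩
  have : Finite (CoxeterMatrix.B 2).Group := finite_W c4
  have hR := R4 (K := K) c4 (p := r)
  have hG := GG4 (K := K) c4
  obtain ⟨h1, h2, h3⟩ := H965.XZ.wit_sp (p := p) ho he he2
  refine rowA_st_ell hR hG (ne_char hpK) fun J hJ => ?_
  obtain ⟨k, hk⟩ : ∃ k, k ∉ J := by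
    by_contra hcon
    push Not at hcon
    exact hJ (Finset.eq_univ_iff_forall.2 hcon)
  exact H965.XZ.dvd_index_B_all hR hG (fun i hi => H353.PanC.card_X_sr _ hi)
    (fun i hi => by rw [H353.PanC.card_X_last _ (by omega), card_adm]) h1 h2 h3 (j := k)
    (by rw [hmod]; exact Nat.zero_le _) (by exact_mod_cast hk)

/-! ### The torus -/

/-- the diagonal elements -/
noncomputable def dgH (K : Type u) [Field K] : (Fin 2 → Kˣ) →* isos (form 2 K) := MonoidHom.mk' dgY dgY_mul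

theorem dgH_apply (l : Fin 2 → Kˣ) : dgH K l = dgY l := rfl

theorem dgH_inj : Function.Injective (dgH K) := by
  rw [injective_iff_map_eq_one]
  intro l hl
  rw [dgH_apply] at hl
  have h1 := F1_dg l
  have h2 := F2_dg l
  rw [hl] at h1 h2
  have h3 : F1 (1 : isos (form 2 K)).1 = 1 := by
    have := F1_dg (1 : Fin 2 → Kˣ)
    rw [← dgH_apply, map_one] at this
    simpa using this
  have h4 : F2 (1 : isos (form 2 K)).1 = 1 := by
    have := F2_dg (1 : Fin 2 → Kˣ)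
    rw [← dgH_apply, map_one] at this
    simpa using this
  rw [h3] at h1
  rw [h4, ← h1, one_mul] at h2
  funext i
  fin_cases i
  · exact Units.ext h1.symm
  · exact Units.ext h2.symm

/-- the elements of the torus of order dividing `p` -/
noncomputable def Qp (K : Type u) [Field K] (p : ℕ) : Subgroup (isos (form 2 K)) := (powMonoidHom p : (Fin 2 → Kˣ) →* _).ker.map (dgH K)

theorem mem_Qp {x : isos (form 2 K)} : x ∈ Qp K p ↔ x ∈ T4 K ∧ x ^ p = 1 := by
  constructor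
  · rintro ⟨l, hl, rfl⟩
    refine ⟨dgY_mem l, ?_⟩
    rw [← map_pow]
    have : l ^ p = 1 := hl
    rw [this, map_one]
  · rintro ⟨h1, h2⟩
    obtain ⟨l, rfl⟩ := exists_dg h1
    refine ⟨l, ?_, rfl⟩
    show l ^ p = 1
    apply dgH_inj
    rw [map_pow, map_one]
    exact h2

theorem isPGroup_Qp : IsPGroup p (Qp K p) := fun x => ⟨1, Subtype.ext (by rw [pow_one]; exact (mem_Qp.1 x.2).2)⟩

theorem Qp_le : Qp K p ≤ T4 K := fun _ hx => (mem_Qp.1 hx).1

theorem norm_Qp {k x : isos (form 2 K)} (hk : k ∈ Subgroup.normalizer (T4 K : Set (isos (form 2 K)))) (hx : x ∈ Qp K p) :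
    k * x * k⁻¹ ∈ Qp K p := by
  obtain ⟨h1, h2⟩ := mem_Qp.1 hx
  refine mem_Qp.2 ⟨(Subgroup.mem_normalizer_iff.1 hk x).1 h1, ?_⟩
  rw [conj_pow, h2, mul_one, mul_inv_cancel]

/-- the eigenvalues -/
def lam (l : Fin 2 → Kˣ) : Fin 2 ⊕ Fin 2 → K := Sum.elim (fun i => (((l i)⁻¹ : Kˣ) : K)) (fun i => (l i : K))

theorem dg_single (l : Fin 2 → Kˣ) (x : Fin 2 ⊕ Fin 2) :
    dg l (Pi.single x 1 : Fin 2 ⊕ Fin 2 → K) = lam l x • (Pi.single x 1 : Fin 2 ⊕ Fin 2 → K) := by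
  rcases x with i | i
  · rw [dg_f, Units.smul_def]; rfl
  · rw [dg_e]; rfl

theorem dg_coord (l : Fin 2 → Kˣ) (v : Fin 2 ⊕ Fin 2 → K) (y : Fin 2 ⊕ Fin 2) : dg l v y = lam l y * v y := by
  rcases y with i | i <;> rfl

theorem coord_zero {g : isos (form 2 K)} {l : Fin 2 → Kˣ} (hc : g * dgY l = dgY l * g) {x y : Fin 2 ⊕ Fin 2}
    (hne : lam l x ≠ lam l y) : g.1 (Pi.single x 1 : Fin 2 ⊕ Fin 2 → K) y = 0 := by
  have h1 : g.1 (dg l (Pi.single x 1)) = dg l (g.1 (Pi.single x 1)) :=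
    LinearEquiv.congr_fun (congrArg Subtype.val hc) (Pi.single x 1)
  have h2 := congrFun h1 y
  rw [dg_single, map_smul, dg_coord, Pi.smul_apply, smul_eq_mul] at h2
  have h3 : (lam l x - lam l y) * g.1 (Pi.single x 1 : Fin 2 ⊕ Fin 2 → K) y = 0 := by
    rw [sub_mul, h2, sub_self]
  exact (mul_eq_zero.1 h3).resolve_left (sub_ne_zero.2 hne)

theorem exists_sep (hp2 : p ≠ 2) {ζ : Kˣ} (hζ : orderOf ζ = p) {x y : Fin 2 ⊕ Fin 2} (hxy : x ≠ y) :
    ∃ l : Fin 2 → Kˣ, l ^ p = 1 ∧ lam l x ≠ lam l y := by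
  have hz : ζ ^ p = 1 := by rw [← hζ, pow_orderOf_eq_one]
  have h1 : ζ ≠ 1 := by
    rintro rfl
    rw [orderOf_one] at hζ
    exact hp.out.one_lt.ne hζ
  have h2 : ζ⁻¹ ≠ ζ := by
    intro h
    have h3 : ζ ^ 2 = 1 := by
      rw [pow_two]
      nth_rewrite 1 [← h]
      exact inv_mul_cancel ζ
    have h4 := orderOf_dvd_of_pow_eq_one h3
    rw [hζ] at h4
    exact hp2 ((Nat.prime_dvd_prime_iff_eq hp.out Nat.prime_two).1 h4)
  have h3 : ζ⁻¹ ≠ 1 := fun h => h1 (inv_eq_one.1 h)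
  have e1 : (![ζ, 1] : Fin 2 → Kˣ) ^ p = 1 := by
    funext i; fin_cases i <;> simp [hz]
  have e2 : (![1, ζ] : Fin 2 → Kˣ) ^ p = 1 := by
    funext i; fin_cases i <;> simp [hz]
  have k1 : (ζ : K) ≠ 1 := fun h => h1 (Units.ext h)
  have k2 : ((ζ⁻¹ : Kˣ) : K) ≠ ζ := fun h => h2 (Units.ext h)
  have k3 : ((ζ⁻¹ : Kˣ) : K) ≠ 1 := fun h => h3 (Units.ext h)
  rcases x with i | i <;> rcases y with j | j <;> fin_cases i <;> fin_cases j <;>
    first
    | exact absurd rfl hxy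
    | exact ⟨_, e1, by simpa [lam] using k1⟩
    | exact ⟨_, e1, by simpa [lam] using k1.symm⟩
    | exact ⟨_, e1, by simpa [lam] using k2⟩
    | exact ⟨_, e1, by simpa [lam] using k2.symm⟩
    | exact ⟨_, e2, by simpa [lam] using k2⟩
    | exact ⟨_, e2, by simpa [lam] using k2.symm⟩

/-- **the centraliser of `Q0`** -/
theorem cent_le (hp2 : p ≠ 2) (hd : p ∣ Nat.card K - 1) :
    Subgroup.centralizer (Qp K p : Set (isos (form 2 K))) ≤ T4 K := by
  classical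
  intro g hg
  have hcard : p ∣ Nat.card Kˣ := by rwa [Nat.card_units]
  obtain ⟨ζ, hζ⟩ := exists_prime_orderOf_dvd_card' p hcard
  have key : ∀ x y : Fin 2 ⊕ Fin 2, x ≠ y → g.1 (Pi.single x 1 : Fin 2 ⊕ Fin 2 → K) y = 0 := by
    intro x y hxy
    obtain ⟨l, hl, hne⟩ := exists_sep hp2 hζ hxy
    exact coord_zero (Subgroup.mem_centralizer_iff.1 hg (dgY l) ⟨l, hl, rfl⟩).symm hne
  have h2 : ∀ x : Fin 2 ⊕ Fin 2, ∃ c : K, c ≠ 0 ∧ g.1 (Pi.single x 1) = c • (Pi.single x 1 : Fin 2 ⊕ Fin 2 → K) := by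
    intro x
    refine ⟨g.1 (Pi.single x 1) x, ?_, ?_⟩
    · intro h0
      have h3 : g.1 (Pi.single x 1) = 0 := by
        funext y
        by_cases hxy : x = y
        · rw [← hxy, h0]; rfl
        · exact key x y hxy
      have h4 := g.1.map_eq_zero_iff.1 h3
      have h5 := congrFun h4 x
      simp at h5
    · funext y
      by_cases hxy : x = y
      · subst hxy; simp
      · rw [key x y hxy]
        simp [Ne.symm hxy]
  refine mem_T.2 ?_
  rintro ⟨i, s⟩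
  cases s
  · exact h2 (.inl i)
  · exact h2 (.inr i)

/-- **the case `p ∣ q - 1`** -/
theorem rowA_torus [Fintype (isos (form 2 K))] (hp2 : p ≠ 2) (hd : p ∣ Nat.card K - 1) : RowA p (isos (form 2 K)) := by
  obtain ⟨r, hr⟩ := CharP.exists K
  have hrp : Fact r.Prime := ⟨CharP.char_is_prime K r⟩
  have : Finite (CoxeterMatrix.B 2).Group := finite_W c4
  refine rowA_st_torus (R4 (K := K) c4 (p := r)) (GG4 (K := K) c4) ?_ (by decide) isPGroup_Qp Qp_le
    (fun v k hk q hq => norm_Qp hk.mem_normalizer hq) (cent_le hp2 hd)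
  rintro D ⟨i, hi⟩ ⟨j, hj⟩
  refine ⟨i, hi, j, hj, ?_⟩
  have hij : i ≠ j := fun e => hj (e ▸ hi)
  clear hi hj
  fin_cases i <;> fin_cases j
  · exact absurd rfl hij
  · simp [CoxeterMatrix.B]
  · simp [CoxeterMatrix.B]
  · exact absurd rfl hij

/-- `Sp_4(q) = PSp_4(q)` for `q` even -/
noncomputable def spEquiv (h2 : (2 : K) = 0) : isos (form 2 K) ≃* Cfsg.PSp 2 K :=
  MulEquiv.ofBijective toPSp ⟨by
    rw [injective_iff_map_eq_one]
    intro g hg
    obtain ⟨a, ha, hv⟩ := exists_smul_of_toPSp_eq_one hg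
    have h3 : a = 1 := by
      have h4 : (a - 1) ^ 2 = 0 := by linear_combination ha + (1 - a) * h2
      exact sub_eq_zero.1 ((pow_eq_zero_iff two_ne_zero).1 h4)
    apply Subtype.ext
    ext v
    simp [hv, h3], toPSp_surjective⟩

/-- **`PSp_4(q)`, `q` even** -/
theorem rowA_psp_four_two {K : Type} [Field K] [Fintype K] (hp2 : p ≠ 2) (hpK : (p : K) ≠ 0) (h2 : (2 : K) = 0)
    [Fintype (Cfsg.PSp 2 K)] (hd : p ∣ Nat.card (Cfsg.PSp 2 K)) : RowA p (Cfsg.PSp 2 K) := by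
  classical
  have hfi : Finite (isos (form 2 K)) := finite_isos
  have hft : Fintype (isos (form 2 K)) := Fintype.ofFinite _
  refine H776.CY.RowA.congr (spEquiv h2).symm ?_
  have hpq := H2.BR.not_dvd_card hp.out hpK
  have hq1 : 1 < Nat.card K := Finite.one_lt_card
  have h3 : p ∣ Nat.card K ^ (2 ^ 2) * ∏ i ∈ Finset.range 2, (Nat.card K ^ (2 * (i + 1)) - 1) := by
    rw [← H277.ClsPsp.card_psp (F := K) (q := Nat.card K) Nat.card_eq_fintype_card.symm (m := 2) (by omega)]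
    exact hd.mul_left _
  have h4 : p ∣ Nat.card K ^ 4 - 1 := by
    rcases hp.out.dvd_mul.1 h3 with h4 | h4
    · exact absurd (hp.out.dvd_of_dvd_pow h4) hpq
    · rw [Finset.prod_range_succ, Finset.prod_range_one] at h4
      rcases hp.out.dvd_mul.1 h4 with h5 | h5
      · have h6 := Nat.sub_dvd_pow_sub_pow (Nat.card K ^ 2) 1 2
        rw [← pow_mul, one_pow] at h6
        exact h5.trans h6
      · exact h5
  have h5 : orderOf ((Nat.card K : ℕ) : ZMod p) ∣ 4 := (H31.BR.Arith.dvd_sub_one (p := p) (q := Nat.card K) (by omega) 4).1 h4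
  have h6 : orderOf ((Nat.card K : ℕ) : ZMod p) ≤ 4 := Nat.le_of_dvd (by norm_num) h5
  have h7 : orderOf ((Nat.card K : ℕ) : ZMod p) = 1 ∨ orderOf ((Nat.card K : ℕ) : ZMod p) = 2 ∨ orderOf ((Nat.card K : ℕ) : ZMod p) = 4 := by
    generalize orderOf ((Nat.card K : ℕ) : ZMod p) = o at h5 h6
    interval_cases o <;> simp_all
  rcases h7 with h7 | h7 | h7
  · refine rowA_torus hp2 ?_
    have h8 := (H31.BR.Arith.dvd_sub_one (p := p) (q := Nat.card K) (by omega) 1).2 h7.dvd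
    rwa [pow_one] at h8
  · exact rowA_ell hpK (e := 1) (by norm_num) (by norm_num) (by norm_num) (by omega)
  · exact rowA_ell hpK (e := 2) (by norm_num) (by norm_num) (by norm_num) (by omega)

end Cfsg.Agent.H333.CY.Four
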