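import Cfsg.Agent.H31.BR.PolInst
import Cfsg.Agent.H770.CY.Defs

/-!
# S4829, polar spaces: the action of a group of automorphisms on the totally singular `k`-spaces (helper333)

`PolAut Φ ρ' π A K` : the automorphisms in `A` are induced by semisimilarities of `Φ`, and for `1 ≤ k ≤ K` the totally
singular `k`-spaces are separated by their stabilizers.

* `eqv_unique` : a permutation of `Φ.X k` equivariant with respect to `a` is unique;
* `PolAut.mulAction` : `A` acts on `Φ.X k`, `1 ≤ k ≤ K`; `smul_eqv`, `smul_eq_of_induces`, `smul_conj`;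
* `orbital` : `A` preserves the `S`-orbitals on `Φ.X k`.
-/

set_option autoImplicit false

open Module Subgroup Cfsg
open Cfsg.Agent.H2.Pol Cfsg.Agent.H674.BR Cfsg.Agent.H646.BR Cfsg.Agent.H145.BR Cfsg.Agent.H623.BR

namespace Cfsg.Agent.H333.CY

universe u

variable {F V : Type*} {H : Type*} {S : Type u} [Field F] [AddCommGroup V]
  [Module F V] [Group H] [Group S] {Φ : Pol F V}
  {ρ' : H →* (V ≃ₗ[F] V)} {π : H →* S} {K : ℕ}

/-- the automorphisms in `A` are induced by semisimilarities, the points are separated by their stabilizers -/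
structure PolAut (Φ : Pol F V) (ρ' : H →* (V ≃ₗ[F] V)) (π : H →* S) (A : Subgroup (MulAut S)) (K : ℕ) : Prop where
  aut : ∀ a ∈ A, ∃ M : V ≃+ V, SemiAct Φ M ∧ Induces ρ' π M a
  sep : ∀ k, 1 ≤ k → k ≤ K → ∀ U W : Φ.X k,
    (∀ h : H, U.1.map (ρ' h : V →ₗ[F] V) = U.1 → W.1.map (ρ' h : V →ₗ[F] V) = W.1) → U = W

theorem PolAut.mono {A B : Subgroup (MulAut S)} (h : PolAut Φ ρ' π A K) (hBA : B ≤ A) : PolAut Φ ρ' π B K :=
  ⟨fun a ha => h.aut a (hBA ha), h.sep⟩

/-- `σ` is equivariant with respect to `a` -/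
def Eqv (hm : Model Φ ρ' π) (k : ℕ) (a : MulAut S) (σ : Φ.X k → Φ.X k) : Prop :=
  letI := hm.mulAction k; ∀ (s : S) (U : Φ.X k), σ (s • U) = a s • σ U

section eqv

variable (hm : Model Φ ρ' π) {k : ℕ}

theorem smul_eq_iff (h : H) (U : Φ.X k) :
    (letI := hm.mulAction k; π h • U) = U ↔ U.1.map (ρ' h : V →ₗ[F] V) = U.1 := by
  rw [hm.smul_eq k h U]
  exact ⟨fun e => congrArg Subtype.val e, fun e => Subtype.ext e⟩

/-- **uniqueness** -/
theorem eqv_unique {A : Subgroup (MulAut S)} (hP : PolAut Φ ρ' π A K) (h1 : 1 ≤ k) (hk : k ≤ K) {a : MulAut S} {σ τ : Φ.X k → Φ.X k}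
    (hσi : Function.Injective σ) (hσ : Eqv hm k a σ) (hτ : Eqv hm k a τ) : σ = τ := by
  let _ := hm.mulAction k
  funext U
  apply hP.sep k h1 hk
  intro h hh
  rw [← smul_eq_iff hm] at hh ⊢
  have h2 : π h = a (a⁻¹ (π h)) := by
    rw [← MulAut.mul_apply, mul_inv_cancel, MulAut.one_apply]
  have h3 : σ ((a⁻¹ (π h)) • U) = σ U := by
    rw [hσ, ← h2]
    exact hh
  have h4 := hσi h3
  have h5 := hτ (a⁻¹ (π h)) U
  rw [← h2, h4] at h5
  exact h5.symm

theorem eqv_one : Eqv hm k 1 id := fun _ _ => rfl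

theorem Eqv.mul {a b : MulAut S} {σ τ : Φ.X k → Φ.X k} (hσ : Eqv hm k a σ) (hτ : Eqv hm k b τ) : Eqv hm k (a * b) (σ ∘ τ) := by
  intro s U
  let _ := hm.mulAction k
  show σ (τ (s • U)) = (a * b) s • σ (τ U)
  rw [hτ, hσ]
  rfl

theorem eqv_conj (g : S) : letI := hm.mulAction k; Eqv hm k (MulAut.conj g) (fun U => g • U) := by
  let _ := hm.mulAction k
  intro s U
  show g • s • U = (g * s * g⁻¹) • g • U
  rw [smul_smul, smul_smul, inv_mul_cancel_right]

variable [FiniteDimensional F V]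

theorem eqv_perm {M : V ≃+ V} (hM : SemiAct Φ M) {a : MulAut S} (ha : Induces ρ' π M a) : Eqv hm k a (hM.perm k) := by
  intro s U
  let _ := hm.mulAction k
  obtain ⟨g, rfl⟩ := hm.surj s
  obtain ⟨g', hg', hmv⟩ := ha g
  have key : ∀ U : Submodule F V, (hM.sub U).map (ρ' g' : V →ₗ[F] V) = hM.sub (U.map (ρ' g : V →ₗ[F] V)) := by
    intro U
    ext v
    constructor
    · rintro ⟨_, ⟨x, hx, rfl⟩, rfl⟩
      exact ⟨ρ' g x, ⟨x, hx, rfl⟩, (hmv x).symm⟩
    · rintro ⟨_, ⟨x, hx, rfl⟩, rfl⟩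
      exact ⟨M x, ⟨x, hx, rfl⟩, hmv x⟩
  show hM.perm k (π g • U) = a (π g) • hM.perm k U
  rw [← hg', hm.smul_eq k g U, hm.smul_eq k g' (hM.perm k U)]
  exact (Subtype.ext (key U.1)).symm

/-- the permutation of `Φ.X k` induced by `a` -/
noncomputable def actP {A : Subgroup (MulAut S)} (hP : PolAut Φ ρ' π A K) (k : ℕ) (a : A) : Φ.X k ≃ Φ.X k :=
  (Classical.choose_spec (hP.aut a a.2)).1.perm k

theorem eqv_actP {A : Subgroup (MulAut S)} (hP : PolAut Φ ρ' π A K) (a : A) : Eqv hm k a (actP hP k a) :=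
  eqv_perm hm (Classical.choose_spec (hP.aut a a.2)).1 (Classical.choose_spec (hP.aut a a.2)).2

/-- **`A` acts on `Φ.X k`** -/
@[reducible] noncomputable def PolAut.mulAction {A : Subgroup (MulAut S)} (hP : PolAut Φ ρ' π A K) (h1 : 1 ≤ k) (hk : k ≤ K) :
    MulAction A (Φ.X k) where
  smul a U := actP hP k a U
  one_smul U := congrFun (eqv_unique hm hP h1 hk (actP hP k 1).injective (eqv_actP hm hP 1) (eqv_one hm)) U
  mul_smul a b U := congrFun (eqv_unique hm hP h1 hk (actP hP k (a * b)).injective (eqv_actP hm hP (a * b))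
    ((eqv_actP hm hP a).mul hm (eqv_actP hm hP b))) U

theorem smul_eqv {A : Subgroup (MulAut S)} (hP : PolAut Φ ρ' π A K) (h1 : 1 ≤ k) (hk : k ≤ K) (a : A) :
    letI := hP.mulAction hm h1 hk; Eqv hm k a (fun U : Φ.X k => a • U) := eqv_actP hm hP a

/-- the action of `a` is given by every semisimilarity inducing it -/
theorem smul_eq_of_induces {A : Subgroup (MulAut S)} (hP : PolAut Φ ρ' π A K) (h1 : 1 ≤ k) (hk : k ≤ K) {a : A} {M : V ≃+ V}
    (hM : SemiAct Φ M) (ha : Induces ρ' π M a) (U : Φ.X k) : (letI := hP.mulAction hm h1 hk; a • U) = hM.perm k U :=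
  congrFun (eqv_unique hm hP h1 hk (actP hP k a).injective (eqv_actP hm hP a) (eqv_perm hm hM ha)) U

/-- inner automorphisms -/
theorem smul_conj {A : Subgroup (MulAut S)} (hP : PolAut Φ ρ' π A K) (h1 : 1 ≤ k) (hk : k ≤ K) {g : S}
    (hg : MulAut.conj g ∈ A) (U : Φ.X k) :
    (letI := hP.mulAction hm h1 hk; (⟨MulAut.conj g, hg⟩ : A) • U) = (letI := hm.mulAction k; g • U) :=
  congrFun (eqv_unique hm hP h1 hk (actP hP k ⟨MulAut.conj g, hg⟩).injective (eqv_actP hm hP ⟨MulAut.conj g, hg⟩)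
    (eqv_conj hm g)) U

end eqv

section orbital

theorem sub_inf {M : V ≃+ V} (hM : SemiAct Φ M) (U W : Submodule F V) : hM.sub (U ⊓ W) = hM.sub U ⊓ hM.sub W := by
  ext v
  obtain ⟨v, rfl⟩ := M.surjective v
  rw [hM.mem_sub, Submodule.mem_inf, Submodule.mem_inf, hM.mem_sub, hM.mem_sub]

theorem sub_perp {M : V ≃+ V} (hM : SemiAct Φ M) (U : Submodule F V) : hM.sub (Φ.perp U) = Φ.perp (hM.sub U) := by
  ext v
  obtain ⟨v, rfl⟩ := M.surjective v
  rw [hM.mem_sub, Pol.mem_perp, Pol.mem_perp]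
  constructor
  · rintro h _ ⟨x, hx, rfl⟩
    exact (hM.orth v x).2 (h x hx)
  · intro h x hx
    exact (hM.orth v x).1 (h (M x) ⟨x, hx, rfl⟩)

theorem typ_sub [FiniteDimensional F V] {M : V ≃+ V} (hM : SemiAct Φ M) (U W : Submodule F V) : typ Φ (hM.sub U) (hM.sub W) = typ Φ U W := by
  unfold typ
  rw [← sub_inf, ← sub_perp, ← sub_inf, hM.finrank, hM.finrank]

end orbital

end Cfsg.Agent.H333.CY
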