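import Cfsg.Agent.H333.CY.Act
import Cfsg.Agent.H987.BR.SpAut
import Cfsg.Agent.H895.BR.SpModel

/-!
# S4829: all automorphisms of `PSp_2m(q)`, `m ≥ 3` or `q` odd, are induced by semisimilarities (helper333)

* `sp_aut_all`, `polAut_sp` : the data `PolAut` of `PSp m F`.
-/

set_option autoImplicit false

open Cfsg Module Matrix Subgroup
open Cfsg.Agent.ClassicalGeometry.SympBasic Cfsg.Agent.H2.Pol Cfsg.Agent.H674.BR Cfsg.Agent.H895.BR Cfsg.Agent.H987.BR
open Cfsg.Agent.ClassicalGeometry.SympAutSemi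

namespace Cfsg.Agent.H333.CY

variable {m : ℕ} {F : Type*} [Field F]

/-- **all automorphisms are induced by semisimilarities** -/
theorem sp_aut_all [Finite F] (hm : 2 ≤ m) (hc : 3 ≤ m ∨ (2 : F) ≠ 0) (a : MulAut (PSp m F)) :
    ∃ M : (Fin m ⊕ Fin m → F) ≃+ (Fin m ⊕ Fin m → F), SemiAct (spPol m F) M ∧
      Induces (spRho m F) (QuotientGroup.mk' (Subgroup.center (Matrix.symplecticGroup (Fin m) F))) M a := by
  obtain ⟨g, rfl⟩ : ∃ g : semiSim m F, Psi m F g = a :=
    Cfsg.Agent.ClassicalGeometry.SympAutExists.exists_semi hm a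
      (Cfsg.Agent.ClassicalGeometry.SympAutOddA.recog hm hc a)
  exact ⟨semiEquiv g, semiAct _ (fun _ _ => rfl) (fun _ => trivial) g, induces _ (fun _ _ => rfl) g⟩

/-- totally isotropic `k`-spaces are separated by their stabilizers -/
theorem sp_sep {k : ℕ} (U W : (spPol m F).X k)
    (h : ∀ g : Matrix.symplecticGroup (Fin m) F, U.1.map (spRho m F g : (Fin m ⊕ Fin m → F) →ₗ[F] (Fin m ⊕ Fin m → F)) = U.1 →
      W.1.map (spRho m F g : (Fin m ⊕ Fin m → F) →ₗ[F] (Fin m ⊕ Fin m → F)) = W.1) : U = W := by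
  by_contra hUW
  have h1 : ¬ W.1 ≤ U.1 := by
    intro h2
    apply hUW
    exact Subtype.ext (Submodule.eq_of_le_of_finrank_eq h2 (W.2.2.trans U.2.2.symm)).symm
  obtain ⟨w, hw, hwU⟩ := Set.not_subset.1 h1
  -- a vector orthogonal to `U` and not to `w`
  obtain ⟨v, hv1, hv2⟩ : ∃ v, (∀ u ∈ U.1, sympForm m F u v = 0) ∧ sympForm m F w v ≠ 0 := by
    by_contra hcon
    push Not at hcon
    apply hwU
    have h3 := LinearMap.BilinForm.orthogonal_orthogonal (B := sympBilin m F) sympBilin_nondegenerate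
      (sympBilin_isAlt.isRefl) U.1
    rw [← h3, SetLike.mem_coe, LinearMap.BilinForm.mem_orthogonal_iff]
    intro v hv
    rw [LinearMap.BilinForm.mem_orthogonal_iff] at hv
    show sympForm m F v w = 0
    rw [sympForm_swap, hcon v (fun u hu => hv u hu), neg_zero]
  have hap : ∀ x, spRho m F (transv v 1) x = x + (sympForm m F x v) • v := by
    intro x
    rw [spRho_apply, coe_transv, sympTransvection_mulVec, one_mul]
  have h2 := h (transv v 1) (by
    apply Submodule.eq_of_le_of_finrank_eq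
    · rintro _ ⟨u, hu, rfl⟩
      show spRho m F (transv v 1) u ∈ U.1
      rw [hap, hv1 u hu, zero_smul, add_zero]
      exact hu
    · exact LinearEquiv.finrank_map_eq (spRho m F (transv v 1)) U.1)
  have h3 : spRho m F (transv v 1) w ∈ W.1 := by
    rw [← h2]
    exact ⟨w, hw, rfl⟩
  rw [hap] at h3
  have h4 : (sympForm m F w v) • v ∈ W.1 := by
    have := W.1.sub_mem h3 hw
    rwa [add_sub_cancel_left] at this
  have h5 : v ∈ W.1 := (Submodule.smul_mem_iff _ hv2).1 h4
  exact hv2 (spPol_ti_iff.1 W.2.1 w hw v h5)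

/-- **the data `PolAut` of `PSp m F`** -/
theorem polAut_sp [Finite F] (hm : 2 ≤ m) (hc : 3 ≤ m ∨ (2 : F) ≠ 0) (A : Subgroup (MulAut (PSp m F))) (K : ℕ) :
    PolAut (spPol m F) (spRho m F) (QuotientGroup.mk' (Subgroup.center (Matrix.symplecticGroup (Fin m) F)) :
      Matrix.symplecticGroup (Fin m) F →* PSp m F) A K :=
  ⟨fun a _ => sp_aut_all hm hc a, fun _ _ _ U W h => sp_sep U W h⟩

end Cfsg.Agent.H333.CY
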